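import Mathlib.CategoryTheory.Sites.ConstantSheaf
import Mathlib.CategoryTheory.Sites.Limits
import Mathlib.CategoryTheory.Sites.LeftExact
import Mathlib.Algebra.Category.Grp.Limits
import Mathlib.Algebra.Category.Grp.FilteredColimits
import Mathlib.Algebra.Category.Grp.Abelian
import Mathlib.Algebra.Category.Grp.EpiMono
import Mathlib.Algebra.Homology.ShortComplex.ExactFunctor
import Mathlib.Algebra.Homology.ShortComplex.ShortExact
import Mathlib.CategoryTheory.Sites.Abelian

/-!
# Sections of constant sheaves of abelian groups preserve short exact sequences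
-/

set_option autoImplicit false
universe u
open CategoryTheory CategoryTheory.Limits Opposite

namespace Groth.Agent.H45.ConstSheaf

variable {C : Type u} [SmallCategory C] (J : GrothendieckTopology C)

/-- Sections over `U` of the constant sheaf. -/
noncomputable abbrev secConst (U : C) : AddCommGrpCat.{u} ⥤ AddCommGrpCat.{u} :=
  constantSheaf J AddCommGrpCat.{u} ⋙ (sheafSections J AddCommGrpCat.{u}).obj (op U)

instance (U : C) : PreservesFiniteLimits (secConst J U) := by
  have h1 : PreservesFiniteLimits (constantSheaf J AddCommGrpCat.{u}) := by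
    unfold constantSheaf
    exact comp_preservesFiniteLimits _ _
  have h2 : PreservesFiniteLimits ((sheafSections J AddCommGrpCat.{u}).obj (op U)) := by
    change PreservesFiniteLimits (sheafToPresheaf J AddCommGrpCat.{u} ⋙ (evaluation _ _).obj (op U))
    exact comp_preservesFiniteLimits _ _
  exact comp_preservesFiniteLimits _ _

/-- Sections of constant sheaves preserve epimorphisms of abelian groups. -/
theorem epi_secConst_map (U : C) {B D : AddCommGrpCat.{u}} (g : B ⟶ D) [Epi g] :
    Epi ((secConst J U).map g) := by
  have hg : Function.Surjective g := (AddCommGrpCat.epi_iff_surjective g).1 inferInstance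
  let U₀ := forget AddCommGrpCat.{u}
  obtain ⟨σ, hσ⟩ := hg.hasRightInverse
  let σ' : U₀.obj D ⟶ U₀.obj B := TypeCat.ofHom σ
  have hσ' : σ' ≫ U₀.map g = 𝟙 _ := by
    ext x
    exact hσ x
  let iso := constantCommuteCompose J U₀
  let T := (constantSheaf J AddCommGrpCat.{u} ⋙ sheafCompose J U₀).map g
  have hT : T = iso.hom.app B ≫ (constantSheaf J (Type u)).map (U₀.map g) ≫ iso.inv.app D := by
    have h0 : T ≫ iso.hom.app D = iso.hom.app B ≫ (constantSheaf J (Type u)).map (U₀.map g) :=
      iso.hom.naturality g
    rw [← Category.assoc, ← h0, Category.assoc, Iso.hom_inv_id_app, Category.comp_id]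
  let R := iso.hom.app D ≫ (constantSheaf J (Type u)).map σ' ≫ iso.inv.app B
  have hRT : R ≫ T = 𝟙 _ := by
    rw [hT]
    dsimp only [R]
    simp only [Category.assoc]
    rw [Iso.inv_hom_id_app_assoc, ← Functor.map_comp_assoc, hσ', CategoryTheory.Functor.map_id,
      Category.id_comp, Iso.hom_inv_id_app]
  have h1 : R.hom.app (op U) ≫ T.hom.app (op U) = 𝟙 _ := by
    have := congrArg (fun (t : (constantSheaf J AddCommGrpCat.{u} ⋙ sheafCompose J U₀).obj D ⟶
      (constantSheaf J AddCommGrpCat.{u} ⋙ sheafCompose J U₀).obj D) => t.hom.app (op U)) hRT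
    exact this
  rw [AddCommGrpCat.epi_iff_surjective]
  intro y
  refine ⟨(R.hom.app (op U)) y, ?_⟩
  exact congrArg (fun t => t y) h1

end Groth.Agent.H45.ConstSheaf
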